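import Mathlib
import Cfsg.Agent.MaxCentNormal.Basic
import Cfsg.Agent.MaxCent.Types
import Cfsg.Agent.ZJ.Glauberman
import Cfsg.Agent.S4355

/-!
All the centralisers are abelian unless the normal subgroup is a `p`-group modulo its centre.
-/

set_option autoImplicit false

namespace CfsgLib.MaxCentNormal

open scoped commutatorElement Pointwise
open CfsgLib.MaxCent (cent mem_cent self_mem_cent center_le_cent IsPElem mem_of_two_pows mem_of_parts exists_part
  Ab cent_conj ab_conj conj_mem_center mem_conj_smul_iff not_dvd_index_of_selfNormalizing PMod)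

/-- A `p`-subgroup above one of index prime to `p` is no larger. -/
theorem le_of_pgroup_of_not_dvd {Q : Type*} [Group Q] [Finite Q] {p : ℕ} [hp : Fact p.Prime] {A B : Subgroup Q}
    (hle : A ≤ B) (hB : IsPGroup p B) (hA : ¬ p ∣ A.index) : B ≤ A := by
  rw [← Subgroup.relIndex_eq_one]
  obtain ⟨n, hn⟩ := hB.exists_card_eq
  refine Nat.eq_one_of_dvd_coprimes ((hp.out.coprime_iff_not_dvd.2 hA).pow_left n) ?_
    ((Dvd.intro _ (Subgroup.relIndex_mul_index hle)))
  rw [← hn]
  exact Subgroup.index_dvd_card _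

variable {G : Type*} [Group G] [Finite G] {N : Subgroup G} [N.Normal]

namespace Hyp

variable (h : Hyp N)
include h

/-- A non-abelian centraliser is not normal. -/
theorem not_normal_of_nonAb {p : ℕ} (hp : p.Prime) (hP : ¬ PMod p N) {x : N} (hx : IsPElem p x)
    (hx' : x ∉ Subgroup.center N) (hab : ¬ Ab (cent x)) : ¬ (cent x).Normal := by
  intro hn
  obtain ⟨q, hq, hqp, t, ht, ht'⟩ := exists_other hp hP
  set M := cent x with hM
  set E : Subgroup N := M ⊓ Subgroup.centralizer (M : Set N) with hE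
  have hMI := inv_iff.1 (h.inv_cent hx' hn)
  have hEI : Inv E := inv_iff.2 fun g d hd => by
    refine ⟨hMI g d hd.1, Subgroup.mem_centralizer_iff.2 fun b hb => ?_⟩
    have hb' := hMI g⁻¹ b hb
    have e : MulAut.conjNormal g (MulAut.conjNormal g⁻¹ b) = b := by
      rw [← MulAut.mul_apply, ← map_mul, mul_inv_cancel, map_one, MulAut.one_apply]
    have := congrArg (MulAut.conjNormal g) (Subgroup.mem_centralizer_iff.1 hd.2 _ hb')
    rwa [map_mul, map_mul, e] at this
  have hxE : x ∈ E := ⟨self_mem_cent x, Subgroup.mem_centralizer_iff.2 fun b hb => mem_cent.1 hb⟩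
  have hxt : ¬ E ≤ cent t := fun hle =>
    ht' (h.mem_center_of_other hp hq hqp hx hx' hab ht (mem_cent.2 (mem_cent.1 (hle hxE)).symm))
  have htop := h.sup_eq_top ht' hEI hxt
  haveI := hEI.normal
  have hMt : ∀ c ∈ cent t ⊓ M, ∀ d ∈ cent t ⊓ M, Commute c d := by
    intro c hc d hd
    refine mem_cent.1 (mem_of_parts (H := cent d) fun r hr k hk => mem_cent.2 ?_)
    by_cases hkc : c ^ k ∈ Subgroup.center N
    · exact (Subgroup.mem_center_iff.1 hkc d).symm
    · have hrp : r = p := by
        by_contra hrp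
        exact hkc (h.mem_center_of_other hp hr hrp hx hx' hab hk (M.pow_mem hc.2 k))
      have e : cent (c ^ k) = cent t := h.eq_of_coprime hr hq (by rw [hrp]; exact hqp.symm) hk ht
        (mem_cent.1 ((cent t).pow_mem hc.1 k)) hkc ht'
      exact (mem_cent.1 (e.ge hd.1)).symm
  refine hab fun m hm n hn' => ?_
  obtain ⟨c, hc, e, he, rfl⟩ := Subgroup.mem_sup_of_normal_right.1 (htop.ge (Subgroup.mem_top m))
  obtain ⟨d, hd, f, hf, rfl⟩ := Subgroup.mem_sup_of_normal_right.1 (htop.ge (Subgroup.mem_top n))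
  have hcM : c ∈ M := by simpa [mul_assoc] using M.mul_mem hm (M.inv_mem he.1)
  have hdM : d ∈ M := by simpa [mul_assoc] using M.mul_mem hn' (M.inv_mem hf.1)
  have he' : ∀ b ∈ M, Commute e b := fun b hb => (Subgroup.mem_centralizer_iff.1 he.2 b hb).symm
  have hf' : ∀ b ∈ M, Commute f b := fun b hb => (Subgroup.mem_centralizer_iff.1 hf.2 b hb).symm
  have hcd : Commute c d := hMt c ⟨hc, hcM⟩ d ⟨hd, hdM⟩
  exact ((hcd.mul_right (hf' c hcM).symm).mul_left ((he' d hdM).mul_right (he' f hf.1))).eq

omit [N.Normal] in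
theorem isPGroup_map {p : ℕ} (hp : p.Prime) {x : N} (hx : IsPElem p x) (hx' : x ∉ Subgroup.center N)
    (hab : ¬ Ab (cent x)) : IsPGroup p ((cent x).map (QuotientGroup.mk' (Subgroup.center N))) := by
  rintro ⟨_, g, hg, rfl⟩
  obtain ⟨k, hk⟩ := h.pow_mem_center hp hx hx' hab hg
  exact ⟨k, Subtype.ext (by
    rw [SubgroupClass.coe_pow, OneMemClass.coe_one, ← map_pow, QuotientGroup.mk'_apply, QuotientGroup.eq_one_iff]
    exact hk)⟩

omit [Finite G] [N.Normal] h in
theorem comap_map_cent (x : N) :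
    ((cent x).map (QuotientGroup.mk' (Subgroup.center N))).comap (QuotientGroup.mk' (Subgroup.center N)) = cent x := by
  rw [Subgroup.comap_map_eq, QuotientGroup.ker_mk', sup_eq_left.2 (center_le_cent x)]

/-- A non-abelian centraliser of a `p`-element has index prime to `p`. -/
theorem not_dvd_index {p : ℕ} [Fact p.Prime] (hP : ¬ PMod p N) {x : N} (hx : IsPElem p x)
    (hx' : x ∉ Subgroup.center N) (hab : ¬ Ab (cent x)) :
    ¬ p ∣ ((cent x).map (QuotientGroup.mk' (Subgroup.center N))).index := by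
  refine not_dvd_index_of_selfNormalizing (h.isPGroup_map Fact.out hx hx' hab) ?_
  apply Subgroup.comap_injective (QuotientGroup.mk'_surjective _)
  rw [Subgroup.comap_normalizer_eq_of_surjective _ (QuotientGroup.mk'_surjective _), comap_map_cent,
    h.normalizer_cent hx' (h.not_normal_of_nonAb Fact.out hP hx hx' hab)]

/-- A non-abelian centraliser of a `p`-element, as a Sylow subgroup of the central quotient. -/
noncomputable def toSylow {p : ℕ} [Fact p.Prime] (hP : ¬ PMod p N) {x : N} (hx : IsPElem p x)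
    (hx' : x ∉ Subgroup.center N) (hab : ¬ Ab (cent x)) : Sylow p (N ⧸ Subgroup.center N) :=
  (h.isPGroup_map Fact.out hx hx' hab).toSylow (h.not_dvd_index hP hx hx' hab)

/-- Every `p`-element is conjugate into a given non-abelian centraliser. -/
theorem exists_conj_mem {p : ℕ} [hp : Fact p.Prime] (hP : ¬ PMod p N) {x : N} (hx : IsPElem p x)
    (hx' : x ∉ Subgroup.center N) (hab : ¬ Ab (cent x)) {a : N} (ha : IsPElem p a) :
    ∃ g : N, g⁻¹ * a * g ∈ cent x := by
  set π := QuotientGroup.mk' (Subgroup.center N) with hπ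
  have hpg : IsPGroup p (Subgroup.zpowers (π a)) := by
    obtain ⟨n, hn⟩ := ha
    obtain ⟨i, -, hi⟩ := (Nat.dvd_prime_pow hp.out).1
      (orderOf_dvd_of_pow_eq_one (x := π a) (n := p ^ n) (by rw [← map_pow, hn, map_one]))
    exact IsPGroup.of_card (by rw [Nat.card_zpowers, hi])
  obtain ⟨R, hR⟩ := hpg.exists_le_sylow
  obtain ⟨e, he⟩ := MulAction.exists_smul_eq (N ⧸ Subgroup.center N) (h.toSylow hP hx hx' hab) R
  obtain ⟨g, rfl⟩ := QuotientGroup.mk'_surjective (Subgroup.center N) e
  have h1 : π a ∈ MulAut.conj (π g) • (cent x).map π := by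
    have := hR (Subgroup.mem_zpowers (π a))
    rw [← he] at this
    exact this
  rw [mem_conj_smul_iff, ← map_inv, ← map_mul, ← map_mul] at h1
  exact ⟨g, (comap_map_cent x).le h1⟩

/-- All non-central `p`-elements have non-abelian centralisers once one of them has. -/
theorem nonAb_of_nonAb {p : ℕ} [hp : Fact p.Prime] (hP : ¬ PMod p N) {x : N} (hx : IsPElem p x)
    (hx' : x ∉ Subgroup.center N) (hab : ¬ Ab (cent x)) {a : N} (ha : IsPElem p a)
    (ha' : a ∉ Subgroup.center N) : ¬ Ab (cent a) := by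
  intro haab
  obtain ⟨g, hg⟩ := h.exists_conj_mem hP hx hx' hab ha
  set b := g * x * g⁻¹ with hb
  have hba : b ∈ cent a := mem_cent.2 (by
    have := mem_cent.1 hg
    calc g * x * g⁻¹ * a = g * (x * (g⁻¹ * a * g)) * g⁻¹ := by group
      _ = g * ((g⁻¹ * a * g) * x) * g⁻¹ := by rw [this]
      _ = a * (g * x * g⁻¹) := by group)
  have hb' : b ∉ Subgroup.center N := fun hc => hx' (conj_mem_center.1 hc)
  have hbe : IsPElem p b := hx.conj g
  have hbab : ¬ Ab (cent b) := by rw [hb, cent_conj, ab_conj]; exact hab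
  have hle : cent a ≤ cent b := fun c hc => mem_cent.2 (haab c hc b hba)
  set π := QuotientGroup.mk' (Subgroup.center N) with hπ
  have hUI : Inv (cent a) := by
    refine (h.normalizer_le_or_inv ha' (cent_le_normalizer a)).resolve_left fun hN => hbab ?_
    have hnd : ¬ p ∣ ((cent a).map π).index := by
      refine not_dvd_index_of_selfNormalizing ((h.isPGroup_map hp.out hbe hb' hbab).to_le (Subgroup.map_mono hle)) ?_
      apply Subgroup.comap_injective (QuotientGroup.mk'_surjective _)
      rw [Subgroup.comap_normalizer_eq_of_surjective _ (QuotientGroup.mk'_surjective _), comap_map_cent]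
      exact le_antisymm hN Subgroup.le_normalizer
    have hle2 := Subgroup.comap_mono (f := π)
      (le_of_pgroup_of_not_dvd (Subgroup.map_mono hle) (h.isPGroup_map hp.out hbe hb' hbab) hnd)
    rw [comap_map_cent, comap_map_cent] at hle2
    exact fun c hc d hd => haab c (hle2 hc) d (hle2 hd)
  haveI := hUI.normal
  obtain ⟨q, hq, hqp, t, ht, ht'⟩ := exists_other hp.out hP
  have hUt : ¬ cent a ≤ cent t := fun hh => ht' (h.mem_center_of_other hp.out hq hqp hbe hb' hbab ht
    (mem_cent.2 (mem_cent.1 (hh hba)).symm))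
  have htop := h.sup_eq_top ht' hUI hUt
  by_cases htab : Ab (cent t)
  · refine h.not_normal_of_nonAb hp.out hP hbe hb' hbab ⟨fun d hd n => ?_⟩
    have hcomm : ∀ u v : N, (QuotientGroup.mk u : N ⧸ cent a) * QuotientGroup.mk v = QuotientGroup.mk v * QuotientGroup.mk u := by
      intro u v
      obtain ⟨c, hc, e, he, rfl⟩ := Subgroup.mem_sup_of_normal_right.1 (htop.ge (Subgroup.mem_top u))
      obtain ⟨d, hd, f, hf, rfl⟩ := Subgroup.mem_sup_of_normal_right.1 (htop.ge (Subgroup.mem_top v))
      rw [QuotientGroup.mk_mul, QuotientGroup.mk_mul, (QuotientGroup.eq_one_iff e).2 he,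
        (QuotientGroup.eq_one_iff f).2 hf, mul_one, mul_one, ← QuotientGroup.mk_mul, htab c hc d hd,
        QuotientGroup.mk_mul]
    have h1 : d⁻¹ * (n * d * n⁻¹) ∈ cent a := by
      rw [← QuotientGroup.eq_one_iff, QuotientGroup.mk_mul, QuotientGroup.mk_mul, QuotientGroup.mk_mul, hcomm n d,
        QuotientGroup.mk_inv, QuotientGroup.mk_inv]
      group
    have := (cent b).mul_mem hd (hle h1)
    rwa [mul_inv_cancel_left] at this
  · refine hbab fun c hc d hd => ?_
    have hin : ∀ c ∈ cent b, c ∈ cent a := by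
      intro c hc
      obtain ⟨c', hc', v, hv, rfl⟩ := Subgroup.mem_sup_of_normal_right.1 (htop.ge (Subgroup.mem_top c))
      have hc'b : c' ∈ cent b := by simpa [mul_assoc] using (cent b).mul_mem hc ((cent b).inv_mem (hle hv))
      obtain ⟨i, hi⟩ := h.pow_mem_center hp.out hbe hb' hbab hc'b
      obtain ⟨j, hj⟩ := h.pow_mem_center hq ht ht' htab hc'
      exact (cent a).mul_mem (center_le_cent a
        (mem_of_two_pows (((Nat.coprime_primes hp.out hq).2 hqp.symm).pow i j) hi hj)) hv
    exact haab c (hin c hc) d (hin d hd)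

/-- There is no non-central normal subgroup which is a `p`-group modulo the centre. -/
theorem false_of_inv_pgroup {p : ℕ} [hp : Fact p.Prime] (hP : ¬ PMod p N) {x : N} (hx : IsPElem p x)
    (hx' : x ∉ Subgroup.center N) (hab : ¬ Ab (cent x)) {W : Subgroup N} (hWI : Inv W)
    (hWp : ∀ w ∈ W, ∃ k, w ^ p ^ k ∈ Subgroup.center N) (hW : ¬ W ≤ Subgroup.center N) : False := by
  haveI := hWI.normal
  obtain ⟨q, hq, hqp, t, ht, ht'⟩ := exists_other hp.out hP
  have hnone : ∀ c ∈ cent t, IsPElem p c → c ∈ Subgroup.center N := by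
    intro c hc hcp
    by_contra hc'
    exact ht' (h.mem_center_of_other hp.out hq hqp hcp hc' (h.nonAb_of_nonAb hP hx hx' hab hcp hc') ht
      (mem_cent.2 (mem_cent.1 hc).symm))
  have hWt : ¬ W ≤ cent t := by
    intro hle
    refine hW fun w hw => mem_of_parts fun r hr k hk => ?_
    by_cases hrp : r = p
    · exact hnone _ ((cent t).pow_mem (hle hw) k) (hrp ▸ hk)
    · obtain ⟨a, ha⟩ := hk
      obtain ⟨j, hj⟩ := hWp _ (W.pow_mem hw k)
      exact mem_of_two_pows (((Nat.coprime_primes hr hp.out).2 hrp).pow a j) (by rw [ha]; exact one_mem _) hj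
  have htop := h.sup_eq_top ht' hWI hWt
  set V := Subgroup.center N ⊔ W with hV
  have helem : ∀ c : N, IsPElem p c → c ∈ V := by
    rintro c ⟨i, hi⟩
    obtain ⟨c', hc', w, hw, rfl⟩ := Subgroup.mem_sup_of_normal_right.1 (htop.ge (Subgroup.mem_top c))
    have h1 : c' ^ p ^ i ∈ W := by
      rw [← QuotientGroup.eq_one_iff]
      have := congrArg (QuotientGroup.mk : N → N ⧸ W) hi
      rw [QuotientGroup.mk_pow, QuotientGroup.mk_mul, (QuotientGroup.eq_one_iff w).2 hw, mul_one] at this
      rw [QuotientGroup.mk_pow, this, QuotientGroup.mk_one]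
    obtain ⟨j, hj⟩ := hWp _ h1
    refine Subgroup.mul_mem_sup (mem_of_parts fun r hr k hk => ?_) hw
    by_cases hrp : r = p
    · exact hnone _ ((cent t).pow_mem hc' k) (hrp ▸ hk)
    · obtain ⟨a, ha⟩ := hk
      refine mem_of_two_pows (m := r ^ a) (n := p ^ (i + j)) (((Nat.coprime_primes hr hp.out).2 hrp).pow a _)
        (by rw [ha]; exact one_mem _) ?_
      rw [← pow_mul, mul_comm, pow_mul, pow_add, pow_mul]
      exact (Subgroup.center N).pow_mem hj k
  have hxV : cent x ≤ V := fun c hc => mem_of_parts fun r hr k hk => by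
    by_cases hrp : r = p
    · exact helem _ (hrp ▸ hk)
    · exact Subgroup.mem_sup_left (h.mem_center_of_other hp.out hr hrp hx hx' hab hk ((cent x).pow_mem hc k))
  set π := QuotientGroup.mk' (Subgroup.center N) with hπ
  have hVp : IsPGroup p (V.map π) := by
    rintro ⟨_, v, hv, rfl⟩
    obtain ⟨z, hz, w, hw, rfl⟩ := Subgroup.mem_sup_of_normal_right.1 hv
    obtain ⟨k, hk⟩ := hWp w hw
    refine ⟨k, Subtype.ext ?_⟩
    show π (z * w) ^ p ^ k = 1
    rw [map_mul, show π z = 1 from (QuotientGroup.eq_one_iff z).2 hz, one_mul, ← map_pow]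
    exact (QuotientGroup.eq_one_iff _).2 hk
  have hVx : V ≤ cent x := fun v hv => (comap_map_cent x).le
    (le_of_pgroup_of_not_dvd (Subgroup.map_mono hxV) hVp (h.not_dvd_index hP hx hx' hab) ⟨v, hv, rfl⟩)
  refine h.not_normal_of_nonAb hp.out hP hx hx' hab ?_
  rw [le_antisymm hxV hVx, hV]
  infer_instance

/-- Every `p`-element is conjugate to one whose centraliser is a given non-abelian one. -/
theorem exists_conj_cent_eq {p : ℕ} [hp : Fact p.Prime] (hP : ¬ PMod p N) {x : N} (hx : IsPElem p x)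
    (hx' : x ∉ Subgroup.center N) (hab : ¬ Ab (cent x)) {u : N} (hu : IsPElem p u)
    (hu' : u ∉ Subgroup.center N) : ∃ g : N, cent (g⁻¹ * u * g) = cent x := by
  have huab := h.nonAb_of_nonAb hP hx hx' hab hu hu'
  set π := QuotientGroup.mk' (Subgroup.center N) with hπ
  obtain ⟨e, he⟩ := MulAction.exists_smul_eq (N ⧸ Subgroup.center N) (h.toSylow hP hx hx' hab) (h.toSylow hP hu hu' huab)
  obtain ⟨g, rfl⟩ := QuotientGroup.mk'_surjective (Subgroup.center N) e
  have e1 : MulAut.conj (π g) • (cent x).map π = (cent u).map π :=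
    congrArg (fun S : Sylow p (N ⧸ Subgroup.center N) => (S : Subgroup (N ⧸ Subgroup.center N))) he
  refine ⟨g, ?_⟩
  conv_lhs => rw [show g⁻¹ * u * g = g⁻¹ * u * g⁻¹⁻¹ by rw [inv_inv], cent_conj]
  ext d
  rw [mem_conj_smul_iff, inv_inv, ← comap_map_cent u, Subgroup.mem_comap, ← e1, mem_conj_smul_iff,
    ← map_inv, ← map_mul, ← map_mul, ← Subgroup.mem_comap, comap_map_cent]
  simp [mul_assoc]

/-- With a normal `p`-complement modulo the centre the Sylow subgroups are abelian. -/
theorem ab_of_complement {p : ℕ} [hp : Fact p.Prime] (hP : ¬ PMod p N) {x : N} (hx : IsPElem p x)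
    (hx' : x ∉ Subgroup.center N) (hab : ¬ Ab (cent x))
    (hc : Cfsg.HasNormalPComplement p (N ⧸ Subgroup.center N)) : False := by
  set π := QuotientGroup.mk' (Subgroup.center N) with hπ
  obtain ⟨S, K, hKn, hKS⟩ := hc
  haveI := hKn
  obtain ⟨n, hn⟩ := S.isPGroup'.exists_card_eq
  have hKi : K.index = p ^ n := by
    rw [hKS.symm.index_eq_card]; exact hn
  have hKc : ¬ p ∣ Nat.card K := by
    rw [← hKS.index_eq_card]
    exact S.not_dvd_index
  set L := K.comap π with hL
  haveI : L.Normal := hKn.comap π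
  have hLx : L ⊓ cent x ≤ Subgroup.center N := by
    intro d hd
    obtain ⟨k, hk⟩ := h.pow_mem_center hp.out hx hx' hab hd.2
    rw [← QuotientGroup.eq_one_iff]
    refine orderOf_eq_one_iff.1 (Nat.eq_one_of_dvd_coprimes
      ((hp.out.coprime_iff_not_dvd.2 hKc).pow_left k) ?_ (Subgroup.orderOf_dvd_natCard K hd.1))
    exact orderOf_dvd_of_pow_eq_one (by rw [← QuotientGroup.mk_pow]
                                        exact (QuotientGroup.eq_one_iff _).2 hk)
  have htop : cent x ⊔ L = ⊤ := by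
    rw [← Subgroup.index_eq_one]
    refine Nat.eq_one_of_dvd_coprimes (a := p ^ n) (b := ((cent x).map π).index)
      ((hp.out.coprime_iff_not_dvd.2 (h.not_dvd_index hP hx hx' hab)).pow_left n) ?_ ?_
    · rw [← hKi, ← Subgroup.index_comap_of_surjective _ (QuotientGroup.mk'_surjective (Subgroup.center N))]
      exact Subgroup.index_dvd_of_le le_sup_right
    · rw [← Subgroup.index_comap_of_surjective _ (QuotientGroup.mk'_surjective (Subgroup.center N)), comap_map_cent]
      exact Subgroup.index_dvd_of_le le_sup_left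
  have key : ∀ u ∈ cent x, IsPElem p u → ∀ v ∈ cent x, Commute u v := by
    intro u hux hu v hv
    by_cases hu' : u ∈ Subgroup.center N
    · exact (Subgroup.mem_center_iff.1 hu' v).symm
    obtain ⟨g, hg⟩ := h.exists_conj_cent_eq hP hx hx' hab hu hu'
    obtain ⟨s, hs, k, hk, rfl⟩ := Subgroup.mem_sup_of_normal_right.1 (htop.ge (Subgroup.mem_top g))
    set u1 := (s * k)⁻¹ * u * (s * k) with hu1
    set u2 := s⁻¹ * u * s with hu2
    have hu1x : u1 ∈ cent x := hg ▸ self_mem_cent u1
    have hu2x : u2 ∈ cent x := (cent x).mul_mem ((cent x).mul_mem ((cent x).inv_mem hs) hux) hs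
    have hz : u2⁻¹ * u1 ∈ Subgroup.center N := by
      refine hLx ⟨?_, (cent x).mul_mem ((cent x).inv_mem hu2x) hu1x⟩
      rw [show u2⁻¹ * u1 = (u2⁻¹ * k⁻¹ * u2) * k by rw [hu1, hu2]; group]
      refine L.mul_mem ?_ hk
      simpa using (inferInstance : L.Normal).conj_mem k⁻¹ (L.inv_mem hk) u2⁻¹
    have hcu : ∀ w ∈ cent x, Commute u2 w := fun w hw => by
      have h1 : Commute u1 w := (mem_cent.1 (hg.ge hw)).symm
      have h2 : Commute (u2⁻¹ * u1)⁻¹ w :=
        (show Commute (u2⁻¹ * u1) w from (Subgroup.mem_center_iff.1 hz w).symm).inv_left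
      have := h1.mul_left h2
      rwa [show u1 * (u2⁻¹ * u1)⁻¹ = u2 by group] at this
    have h3 := hcu (s⁻¹ * v * s) ((cent x).mul_mem ((cent x).mul_mem ((cent x).inv_mem hs) hv) hs)
    calc u * v = s * (u2 * (s⁻¹ * v * s)) * s⁻¹ := by rw [hu2]; group
      _ = s * ((s⁻¹ * v * s) * u2) * s⁻¹ := by rw [h3.eq]
      _ = v * u := by rw [hu2]; group
  refine hab fun a ha b hb => mem_cent.1 (mem_of_parts (H := cent b) fun r hr k hk => mem_cent.2 ?_)
  by_cases hrp : r = p
  · exact (key _ ((cent x).pow_mem ha k) (hrp ▸ hk) b hb).eq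
  · exact (Subgroup.mem_center_iff.1 (h.mem_center_of_other hp.out hr hrp hx hx' hab hk ((cent x).pow_mem ha k)) b).symm

/-- All centralisers are abelian. -/
theorem ab_all (hP : ∀ l : ℕ, l.Prime → ¬ PMod l N) {x0 : N} (hx0 : x0 ∉ Subgroup.center N) : Ab (cent x0) := by
  by_contra hab0
  obtain ⟨p, hp, k, hk, hk'⟩ := exists_part hx0
  have hle0 : cent x0 ≤ cent (x0 ^ k) := fun g hg =>
    mem_cent.2 ((show Commute g x0 from mem_cent.1 hg).pow_right k).eq
  set x := x0 ^ k with hxdef
  have hab : ¬ Ab (cent x) := fun ha => hab0 fun c hc d hd => ha c (hle0 hc) d (hle0 hd)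
  haveI := Fact.mk hp
  have hP' := hP p hp
  set π := QuotientGroup.mk' (Subgroup.center N) with hπ
  by_cases hp2 : p = 2
  · subst hp2
    -- the Sylow two-subgroups are abelian
    obtain ⟨P⟩ : Nonempty (Sylow 2 N) := inferInstance
    have hPab : IsMulCommutative P := Cfsg.Agent.S4355.result (fun a ⟨i, hi⟩ => by
      by_cases ha' : a ∈ Subgroup.center N
      · have : Subgroup.centralizer ({a} : Set N) = ⊤ :=
          eq_top_iff.2 fun g _ => mem_cent.2 (Subgroup.mem_center_iff.1 ha' g)
        rw [this, Subgroup.index_top]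
        omega
      · have hae : IsPElem 2 a := ⟨i, by rw [← hi, pow_orderOf_eq_one]⟩
        have := h.not_dvd_index hP' hae ha' (h.nonAb_of_nonAb hP' hk hk' hab hae ha')
        rwa [← Subgroup.index_comap_of_surjective _ (QuotientGroup.mk'_surjective (Subgroup.center N)),
          comap_map_cent] at this) P
    set R := P.mapSurjective (QuotientGroup.mk'_surjective (Subgroup.center N)) with hR
    obtain ⟨e, he⟩ := MulAction.exists_smul_eq (N ⧸ Subgroup.center N) R (h.toSylow hP' hk hk' hab)
    obtain ⟨g, rfl⟩ := QuotientGroup.mk'_surjective (Subgroup.center N) e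
    have e1 : MulAut.conj (π g) • (P : Subgroup N).map π = (cent x).map π :=
      congrArg (fun S : Sylow 2 (N ⧸ Subgroup.center N) => (S : Subgroup (N ⧸ Subgroup.center N))) he
    have hform : ∀ c ∈ cent x, ∃ a ∈ (P : Subgroup N), ∃ z ∈ Subgroup.center N, c = g * a * g⁻¹ * z := by
      intro c hc
      have h1 : π c ∈ MulAut.conj (π g) • (P : Subgroup N).map π := e1 ▸ ⟨c, hc, rfl⟩
      rw [mem_conj_smul_iff, ← map_inv, ← map_mul, ← map_mul] at h1
      obtain ⟨a, ha, hae⟩ := h1
      have hz : a⁻¹ * (g⁻¹ * c * g) ∈ Subgroup.center N := QuotientGroup.eq.1 hae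
      refine ⟨a, ha, _, hz, ?_⟩
      calc c = g * a * (a⁻¹ * (g⁻¹ * c * g)) * g⁻¹ := by group
        _ = g * a * (g⁻¹ * (a⁻¹ * (g⁻¹ * c * g))) := by
          rw [Subgroup.mem_center_iff.1 hz g⁻¹]; group
        _ = g * a * g⁻¹ * (a⁻¹ * (g⁻¹ * c * g)) := by group
    refine hab fun c hc d hd => ?_
    obtain ⟨a, ha, z, hz, rfl⟩ := hform c hc
    obtain ⟨b, hb, w, hw, rfl⟩ := hform d hd
    have h1 : Commute (g * a * g⁻¹) (g * b * g⁻¹) :=
      (show Commute a b from congrArg Subtype.val (hPab.1.1 ⟨a, ha⟩ ⟨b, hb⟩)).map (MulAut.conj g)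
    have h2 : ∀ n : N, Commute z n := fun n => (Subgroup.mem_center_iff.1 hz n).symm
    have h3 : ∀ n : N, Commute n w := fun n => Subgroup.mem_center_iff.1 hw n
    exact ((h1.mul_right (h3 _)).mul_left ((h2 _).mul_right (h2 w))).eq
  · set S := h.toSylow hP' hk hk' hab with hS
    set W := Cfsg.centerThompsonOf p ((cent x).map π) with hW
    have hWle : W ≤ (cent x).map π := by
      rw [hW, Cfsg.centerThompsonOf, CfsgLib.ZJ.thompsonSubgroupOf_eq]
      exact inf_le_left.trans (CfsgLib.ZJ.J_le _)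
    have hSne : (cent x).map π ≠ ⊥ := fun e => hk' ((QuotientGroup.eq_one_iff x).1
      (Subgroup.mem_bot.1 (e.le ⟨x, self_mem_cent x, rfl⟩)))
    have hWne : W ≠ ⊥ := by
      intro e
      refine CfsgLib.ZJ.W_ne_bot (el := true) (h.isPGroup_map hp hk hk' hab) hSne (le_bot_iff.1 ?_)
      rw [← e, hW, Cfsg.centerThompsonOf, CfsgLib.ZJ.thompsonSubgroupOf_eq]
      exact CfsgLib.ZJ.W_le_centerJ _
    set D := W.comap π with hD
    have hDI : cent (x : G) ≤ Subgroup.normalizer ((D.map N.subtype : Subgroup G) : Set G) := by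
      intro g hg
      refine mem_normalizer_map_of_conj fun d hd => ?_
      set φ : MulAut N := MulAut.conjNormal g with hφ
      have hφx : φ x = x := Subtype.ext (by
        rw [hφ, MulAut.conjNormal_apply, mem_cent.1 hg, mul_inv_cancel_right])
      have hφm : ∀ c : N, c ∈ cent x → φ c ∈ cent x := fun c hc => by
        have := (cent_conjNormal g x c).2 hc
        rwa [hφx] at this
      set f := (QuotientGroup.congr (Subgroup.center N) (Subgroup.center N) φ
        (Subgroup.characteristic_iff_map_eq.1 inferInstance φ)).toMonoidHom with hf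
      have hinj : Function.Injective f := MulEquiv.injective _
      have hfM : ((cent x).map π).map f = (cent x).map π := by
        refine Subgroup.eq_of_le_of_card_ge ?_ (Subgroup.card_map_of_injective hinj).ge
        rintro _ ⟨_, ⟨c, hc, rfl⟩, rfl⟩
        exact ⟨φ c, hφm c hc, rfl⟩
      have hfW := CfsgLib.ZJ.centerThompsonOf_map (p := p) f ((cent x).map π)
        (fun y _ hy => hinj (hy.trans (map_one f).symm))
      rw [hfM] at hfW
      exact hfW.ge ⟨π d, hd, rfl⟩
    refine h.ab_of_complement hP' hk hk' hab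
      (CfsgLib.ZJ.hasNormalPComplement_of_centerThompsonOf hp2 S ⟨le_rfl, fun _ _ _ h => h⟩ ?_)
    change Cfsg.HasNormalPComplement p (Subgroup.normalizer (W : Set (N ⧸ Subgroup.center N)))
    rcases h.normalizer_le_or_inv hk' hDI with hle | hI
    · have hpg : IsPGroup p (Subgroup.normalizer (W : Set (N ⧸ Subgroup.center N))) := by
        refine (h.isPGroup_map hp hk hk' hab).to_le ?_
        rw [← Subgroup.map_comap_eq_self_of_surjective (QuotientGroup.mk'_surjective (Subgroup.center N))
          (Subgroup.normalizer (W : Set (N ⧸ Subgroup.center N))),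
          Subgroup.comap_normalizer_eq_of_surjective _ (QuotientGroup.mk'_surjective _)]
        exact Subgroup.map_mono hle
      have ht : IsPGroup p (⊤ : Subgroup ↥(Subgroup.normalizer (W : Set (N ⧸ Subgroup.center N)))) := hpg.to_subgroup ⊤
      refine ⟨ht.toSylow (by rw [Subgroup.index_top]; exact hp.not_dvd_one), ⊥, inferInstance, ?_⟩
      exact Subgroup.isComplement'_bot_top
    · refine (h.false_of_inv_pgroup hP' hk hk' hab hI (fun w hw => h.pow_mem_center hp hk hk' hab
        ((comap_map_cent x).le (Subgroup.comap_mono hWle hw))) fun hle => hWne ?_).elim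
      rw [eq_bot_iff]
      intro w hw
      obtain ⟨w, rfl⟩ := QuotientGroup.mk'_surjective (Subgroup.center N) w
      exact (QuotientGroup.eq_one_iff w).2 (hle hw)

end Hyp

end CfsgLib.MaxCentNormal
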