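import Mathlib
import Cfsg.Agent.MaxCentNormal.NonAb
import Cfsg.Agent.MaxCent.Count
import Cfsg.Agent.Hall.StructBatch2
import Cfsg.Prelude.Def_Solvable
import Cfsg.Prelude.Def_Transfer

/-!
The structure of the normal subgroup modulo its centre.
-/

set_option autoImplicit false

namespace CfsgLib.MaxCentNormal

open scoped commutatorElement Pointwise
open CfsgLib.MaxCent (cent mem_cent self_mem_cent center_le_cent IsPElem mem_of_two_pows mem_of_parts exists_part
  Ab cent_conj conj_mem_center mem_conj_smul_iff PMod cov ncard_center ncard_subgroup)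

/-- An extension of the centre by pulling back a `p`-group. -/
theorem exists_pow_center {K : Type*} [Group K] [Finite K] {p : ℕ} {x : K} (hx : x ∉ Subgroup.center K)
    (hp : ∃ k, x ^ p ^ k ∈ Subgroup.center K) : ∃ j, x ^ p ^ j ∉ Subgroup.center K ∧ (x ^ p ^ j) ^ p ∈ Subgroup.center K := by
  obtain ⟨k, hk⟩ := hp
  induction k with
  | zero => exact absurd (by simpa using hk) hx
  | succ k ih =>
    by_cases h : x ^ p ^ k ∈ Subgroup.center K
    · exact ih h
    · exact ⟨k, h, by rwa [← pow_mul, ← pow_succ]⟩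

variable {G : Type*} [Group G] [Finite G] {N : Subgroup G} [N.Normal]

namespace Hyp

variable (h : Hyp N)
include h

omit [Finite G] [N.Normal] h in
theorem mul_comm_of_normal_le {C : Subgroup N} [C.Normal] {D : Subgroup N} (hD : Ab D) (htop : D ⊔ C = ⊤)
    (u v : N ⧸ C) : u * v = v * u := by
  obtain ⟨u, rfl⟩ := QuotientGroup.mk_surjective u
  obtain ⟨v, rfl⟩ := QuotientGroup.mk_surjective v
  obtain ⟨c, hc, e, he, rfl⟩ := Subgroup.mem_sup_of_normal_right.1 (htop.ge (Subgroup.mem_top u))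
  obtain ⟨d, hd, f, hf, rfl⟩ := Subgroup.mem_sup_of_normal_right.1 (htop.ge (Subgroup.mem_top v))
  rw [QuotientGroup.mk_mul, QuotientGroup.mk_mul, (QuotientGroup.eq_one_iff e).2 he,
    (QuotientGroup.eq_one_iff f).2 hf, mul_one, mul_one, ← QuotientGroup.mk_mul, hD c hc d hd, QuotientGroup.mk_mul]

/-- The `p`-group case. -/
theorem elementary {p : ℕ} (hp : p.Prime) (hP : PMod p N) :
    Cfsg.IsElementaryAbelian p (⊤ : Subgroup (N ⧸ Subgroup.center N)) := by
  haveI := Fact.mk hp
  haveI := CfsgLib.MaxCent.isNilpotent_of_pows hp hP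
  have key : ∀ x : N, x ∉ Subgroup.center N → ∀ a b : N, ⁅a, b⁆ ∈ cent x ∧ a ^ p ∈ cent x := by
    intro x hx
    set C := cent x with hC
    have hlt : C < Subgroup.normalizer (C : Set N) :=
      Group.normalizerCondition_of_isNilpotent C (lt_top_iff_ne_top.2 (h.cent_ne_top hx))
    have hCI : Inv C := (h.normalizer_le_or_inv hx (cent_le_normalizer x)).resolve_left (not_le_of_gt hlt)
    haveI := hCI.normal
    have hCi := inv_iff.1 hCI
    -- the central elements of order dividing `p` in the quotient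
    let S : Subgroup N :=
      { carrier := {n | (∀ m : N, ⁅n, m⁆ ∈ C) ∧ n ^ p ∈ C}
        one_mem' := ⟨fun m => by simp, by simp⟩
        mul_mem' := fun {a b} ha hb => by
          have hc : ∀ n : N, (∀ m : N, ⁅n, m⁆ ∈ C) → ∀ e : N ⧸ C, Commute (n : N ⧸ C) e := by
            intro n hn e
            obtain ⟨m, rfl⟩ := QuotientGroup.mk_surjective e
            refine commutatorElement_eq_one_iff_mul_comm.1 ?_
            exact (QuotientGroup.eq_one_iff _).2 (hn m)
          refine ⟨fun m => ?_, ?_⟩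
          · rw [← QuotientGroup.eq_one_iff]
            show ⁅((a : N ⧸ C) * b), (m : N ⧸ C)⁆ = 1
            exact commutatorElement_eq_one_iff_mul_comm.2 ((hc a ha.1 _).mul_left (hc b hb.1 _)).eq
          · rw [← QuotientGroup.eq_one_iff, QuotientGroup.mk_pow, QuotientGroup.mk_mul, (hc a ha.1 _).mul_pow,
              ← QuotientGroup.mk_pow, ← QuotientGroup.mk_pow, (QuotientGroup.eq_one_iff _).2 ha.2,
              (QuotientGroup.eq_one_iff _).2 hb.2, mul_one]
        inv_mem' := fun {a} ha => by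
          refine ⟨fun m => ?_, by rw [inv_pow]; exact inv_mem ha.2⟩
          rw [← QuotientGroup.eq_one_iff]
          show ⁅((a : N ⧸ C)⁻¹), (m : N ⧸ C)⁆ = 1
          have h1 : Commute (a : N ⧸ C) (m : N ⧸ C) :=
            commutatorElement_eq_one_iff_mul_comm.1 ((QuotientGroup.eq_one_iff _).2 (ha.1 m))
          exact commutatorElement_eq_one_iff_mul_comm.2 h1.inv_left.eq }
    have hSI : Inv S := inv_iff.2 fun g d hd => ⟨fun m => by
      have := hCi g _ (hd.1 (MulAut.conjNormal g⁻¹ m))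
      rwa [map_commutatorElement, ← MulAut.mul_apply, ← map_mul, mul_inv_cancel, map_one, MulAut.one_apply] at this,
      by rw [← map_pow]; exact hCi g _ hd.2⟩
    have hQp : IsPGroup p (N ⧸ C) := fun e => by
      obtain ⟨n, rfl⟩ := QuotientGroup.mk_surjective e
      obtain ⟨k, hk⟩ := hP n
      exact ⟨k, by rw [← QuotientGroup.mk_pow]; exact (QuotientGroup.eq_one_iff _).2 (center_le_cent x hk)⟩
    haveI : Nontrivial (N ⧸ C) := QuotientGroup.nontrivial_iff.2 (h.cent_ne_top hx)
    haveI := hQp.center_nontrivial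
    obtain ⟨z, hz⟩ := exists_prime_orderOf_dvd_card' (G := Subgroup.center (N ⧸ C)) p (by
      obtain ⟨n, hn⟩ := (hQp.to_subgroup (Subgroup.center (N ⧸ C))).exists_card_eq
      rw [hn]
      refine dvd_pow_self p fun e => ?_
      rw [e, pow_zero] at hn
      exact absurd hn (ne_of_gt Finite.one_lt_card))
    obtain ⟨z0, hz0⟩ := QuotientGroup.mk_surjective (z : N ⧸ C)
    have hzS : z0 ∈ S := ⟨fun m => (QuotientGroup.eq_one_iff _).1 (by
        show ⁅(z0 : N ⧸ C), (m : N ⧸ C)⁆ = 1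
        rw [hz0]
        exact commutatorElement_eq_one_iff_mul_comm.2 (Subgroup.mem_center_iff.1 z.2 _).symm),
      (QuotientGroup.eq_one_iff _).1 (by
        rw [QuotientGroup.mk_pow, hz0, ← SubgroupClass.coe_pow, ← hz, pow_orderOf_eq_one, OneMemClass.coe_one])⟩
    have hSx : ¬ S ≤ C := fun hle => hp.ne_one (by
      rw [← hz, orderOf_eq_one_iff]
      exact Subtype.ext (by rw [← hz0, OneMemClass.coe_one]; exact (QuotientGroup.eq_one_iff _).2 (hle hzS)))
    have hCS : C ≤ S := fun c hc => ⟨fun m => by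
      rw [commutatorElement_def]
      have := (inferInstance : C.Normal).conj_mem _ (C.inv_mem hc) m
      simpa [mul_assoc] using C.mul_mem hc this, C.pow_mem hc p⟩
    have hStop : S = ⊤ := top_le_iff.1 ((h.sup_eq_top hx hSI hSx).ge.trans (sup_le hCS le_rfl))
    exact fun a b => ⟨(hStop.ge (Subgroup.mem_top a)).1 b, (hStop.ge (Subgroup.mem_top a)).2⟩
  have hmem : ∀ n : N, (∀ x : N, x ∉ Subgroup.center N → n ∈ cent x) → n ∈ Subgroup.center N := fun n hn =>
    Subgroup.mem_center_iff.2 fun g => by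
      by_cases hg : g ∈ Subgroup.center N
      · exact (Subgroup.mem_center_iff.1 hg n).symm
      · exact (mem_cent.1 (hn g hg)).symm
  refine ⟨⟨⟨fun a b => Subtype.ext ?_⟩⟩, fun a _ => ?_⟩
  · obtain ⟨a', ha'⟩ := QuotientGroup.mk_surjective (a : N ⧸ Subgroup.center N)
    obtain ⟨b', hb'⟩ := QuotientGroup.mk_surjective (b : N ⧸ Subgroup.center N)
    show (a : N ⧸ Subgroup.center N) * b = b * a
    rw [← ha', ← hb']
    exact commutatorElement_eq_one_iff_mul_comm.1
      ((QuotientGroup.eq_one_iff _).2 (hmem ⁅a', b'⁆ fun x hx => (key x hx a' b').1))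
  · obtain ⟨g, rfl⟩ := QuotientGroup.mk_surjective a
    rw [← QuotientGroup.mk_pow, QuotientGroup.eq_one_iff]
    exact hmem _ fun x hx => (key x hx g g).2

variable (hP : ∀ l : ℕ, l.Prime → ¬ PMod l N)
include hP

theorem eq_of_mem {x y : N} (hx : x ∉ Subgroup.center N) (hy : y ∉ Subgroup.center N) (hyx : y ∈ cent x) :
    cent y = cent x :=
  le_antisymm (fun c hc => mem_cent.2 (h.ab_all hP hy c hc x (mem_cent.2 (mem_cent.1 hyx).symm)))
    (fun c hc => mem_cent.2 (h.ab_all hP hx c hc y hyx))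

theorem mem_of_conj_mem {x : N} (hx : x ∉ Subgroup.center N) (hn : ¬ (cent x).Normal) (u a : N)
    (ha : a ∈ cent x) (ha' : a ∉ Subgroup.center N) (hua : u * a * u⁻¹ ∈ cent x) : u ∈ cent x := by
  have h1 := h.eq_of_mem hP hx ha' ha
  have h2 := h.eq_of_mem hP hx (fun hc => ha' (conj_mem_center.1 hc)) hua
  rw [cent_conj, h1] at h2
  have : u ∈ Subgroup.normalizer (cent x : Set N) := by
    rw [Subgroup.mem_normalizer_iff_map_conj_eq]
    exact h2
  rwa [h.normalizer_cent hx hn] at this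

/-- The conjugates of a non-normal centraliser intersect in the centre. -/
theorem cov_card {x : N} (hx : x ∉ Subgroup.center N) (hn : ¬ (cent x).Normal) :
    (cov (cent x)).ncard + (cent x).index * Nat.card (Subgroup.center N) = Nat.card N := by
  classical
  set A := cent x with hA
  let f : (N ⧸ A) × ↥((A : Set N) \ (Subgroup.center N : Set N)) → cov A := fun z =>
    ⟨z.1.out * (z.2 : N) * z.1.out⁻¹, fun hc => z.2.2.2 (conj_mem_center.1 hc), z.1.out, by
      rw [show z.1.out⁻¹ * (z.1.out * (z.2 : N) * z.1.out⁻¹) * z.1.out = (z.2 : N) by group]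
      exact z.2.2.1⟩
  have hf : Function.Bijective f := by
    refine ⟨?_, ?_⟩
    · rintro ⟨a, ⟨m, hm⟩⟩ ⟨b, ⟨k, hk⟩⟩ e
      have e' : a.out * m * a.out⁻¹ = b.out * k * b.out⁻¹ := congrArg Subtype.val e
      have h1 : (b.out⁻¹ * a.out) * m * (b.out⁻¹ * a.out)⁻¹ = k := by
        calc (b.out⁻¹ * a.out) * m * (b.out⁻¹ * a.out)⁻¹ = b.out⁻¹ * (a.out * m * a.out⁻¹) * b.out := by group
          _ = k := by rw [e']; group
      have hab' : a = b := by
        have := QuotientGroup.eq.2 (h.mem_of_conj_mem hP hx hn _ m hm.1 hm.2 (h1.symm ▸ hk.1))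
        rw [QuotientGroup.out_eq', QuotientGroup.out_eq'] at this
        exact this.symm
      subst hab'
      have : m = k := mul_left_cancel (mul_right_cancel e')
      subst this
      rfl
    · rintro ⟨g, hg, u, hu⟩
      obtain ⟨n, hn'⟩ := QuotientGroup.mk_out_eq_mul A u
      have hmem : (n : N)⁻¹ * (u⁻¹ * g * u) * n ∈ A := A.mul_mem (A.mul_mem (A.inv_mem n.2) hu) n.2
      refine ⟨⟨(u : N ⧸ A), ⟨_, hmem, fun hc => hg ?_⟩⟩, Subtype.ext ?_⟩
      · have := Subgroup.Normal.conj_mem (inferInstance : (Subgroup.center N).Normal) _ hc (u * (n : N))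
        rwa [show u * (n : N) * ((n : N)⁻¹ * (u⁻¹ * g * u) * n) * (u * (n : N))⁻¹ = g by group] at this
      · show (u : N ⧸ A).out * _ * (u : N ⧸ A).out⁻¹ = g
        rw [hn']
        group
  have h1 := Nat.card_eq_of_bijective f hf
  rw [Nat.card_prod, ← Subgroup.index_eq_card, Nat.card_coe_set_eq, Nat.card_coe_set_eq] at h1
  have h2 := Set.ncard_sdiff_add_ncard_of_subset
    (show (Subgroup.center N : Set N) ⊆ (A : Set N) from center_le_cent x)
  rw [ncard_center, ncard_subgroup] at h2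
  rw [← h1, ← mul_add, h2, A.index_mul_card]

omit hP in
theorem two_cov {x : N} (hx : x ∉ Subgroup.center N) :
    2 * ((cent x).index * Nat.card (Subgroup.center N)) ≤ Nat.card N := by
  obtain ⟨c, hc⟩ := Subgroup.card_dvd_of_le (center_le_cent x)
  rw [← (cent x).index_mul_card, mul_left_comm]
  refine Nat.mul_le_mul_left _ ?_
  rcases c with _ | _ | c
  · simp [Nat.card_pos.ne'] at hc
  · exact absurd ((Subgroup.eq_of_le_of_card_ge (center_le_cent x) (by rw [hc, zero_add, mul_one])).ge (self_mem_cent x)) hx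
  · rw [hc, mul_comm]; exact Nat.mul_le_mul_left _ (by omega)

/-- There is one class of non-normal centralisers. -/
theorem conj_of_nonNormal {x y : N} (hx : x ∉ Subgroup.center N) (hn : ¬ (cent x).Normal)
    (hy : y ∉ Subgroup.center N) (hn' : ¬ (cent y).Normal) :
    ∃ u : N, cent y = MulAut.conj u • cent x := by
  by_contra hcon
  push Not at hcon
  have hdisj : Disjoint (cov (cent x)) (cov (cent y)) := by
    rw [Set.disjoint_left]
    rintro g ⟨hg, u, hu⟩ ⟨-, w, hw⟩
    have hu' : u⁻¹ * g * u⁻¹⁻¹ ∉ Subgroup.center N := fun hc => hg (conj_mem_center.1 hc)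
    have hw' : w⁻¹ * g * w⁻¹⁻¹ ∉ Subgroup.center N := fun hc => hg (conj_mem_center.1 hc)
    rw [inv_inv] at hu' hw'
    have h1 : cent g = MulAut.conj u • cent x := by
      rw [← h.eq_of_mem hP hx hu' hu, ← cent_conj, show u * (u⁻¹ * g * u) * u⁻¹ = g by group]
    have h2 : cent g = MulAut.conj w • cent y := by
      rw [← h.eq_of_mem hP hy hw' hw, ← cent_conj, show w * (w⁻¹ * g * w) * w⁻¹ = g by group]
    refine hcon (w⁻¹ * u) ?_
    rw [map_mul, mul_smul, ← h1, h2, smul_smul, ← map_mul, inv_mul_cancel, map_one, one_smul]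
  have hsub : cov (cent x) ∪ cov (cent y) ⊆ (Subgroup.center N : Set N)ᶜ := by
    rintro g (hg | hg) <;> exact hg.1
  have h1 := Set.ncard_le_ncard hsub
  rw [Set.ncard_union_eq hdisj, Set.ncard_compl, ncard_center] at h1
  have a := h.cov_card hP hx hn
  have b := h.cov_card hP hy hn'
  have a' := h.two_cov hx
  have b' := h.two_cov hy
  have c : 0 < Nat.card (Subgroup.center N) := Nat.card_pos
  have d : Nat.card (Subgroup.center N) ≤ Nat.card N := Subgroup.card_le_card_group _
  omega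

/-- A non-central element outside the conjugates. -/
theorem exists_outside {x : N} (hx : x ∉ Subgroup.center N) (hn : ¬ (cent x).Normal) :
    ∃ g : N, g ∉ Subgroup.center N ∧ ∀ u : N, u⁻¹ * g * u ∉ cent x := by
  by_contra hcon
  push Not at hcon
  have heq : cov (cent x) = (Subgroup.center N : Set N)ᶜ := Set.ext fun g =>
    ⟨fun hg => hg.1, fun hg => ⟨hg, hcon g hg⟩⟩
  have a := h.cov_card hP hx hn
  rw [heq, Set.ncard_compl, ncard_center] at a
  have c : 0 < Nat.card (Subgroup.center N) := Nat.card_pos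
  have d : Nat.card (Subgroup.center N) ≤ Nat.card N := Subgroup.card_le_card_group _
  have e : (cent x).index ≠ 1 := fun e => h.cent_ne_top hx (Subgroup.index_eq_one.1 e)
  have e0 : (cent x).index ≠ 0 := Subgroup.index_ne_zero_of_finite
  have h2 : 2 * Nat.card (Subgroup.center N) ≤ (cent x).index * Nat.card (Subgroup.center N) :=
    Nat.mul_le_mul_right _ (by omega)
  omega

theorem exists_nonNormal : ∃ x : N, x ∉ Subgroup.center N ∧ ¬ (cent x).Normal := by
  by_contra hcon
  push Not at hcon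
  have hG' : ∀ a b : N, ⁅a, b⁆ ∈ Subgroup.center N := by
    intro a b
    refine Subgroup.mem_center_iff.2 fun g => ?_
    by_cases hg : g ∈ Subgroup.center N
    · exact (Subgroup.mem_center_iff.1 hg _).symm
    haveI := hcon g hg
    refine (mem_cent.1 (show ⁅a, b⁆ ∈ cent g from ?_)).symm
    obtain ⟨k, hk⟩ : ∃ k, k ∉ cent g := by
      by_contra hc
      push Not at hc
      exact h.cent_ne_top hg (eq_top_iff.2 fun n _ => hc n)
    have hk' : k ∉ Subgroup.center N := fun hc => hk (center_le_cent g hc)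
    have htop : cent k ⊔ cent g = ⊤ := h.sup_eq_top hk' (h.inv_cent hg (hcon g hg))
      fun hle => hk (mem_cent.2 (mem_cent.1 (hle (self_mem_cent g))).symm)
    rw [← QuotientGroup.eq_one_iff]
    show ⁅(a : N ⧸ cent g), (b : N ⧸ cent g)⁆ = 1
    exact commutatorElement_eq_one_iff_mul_comm.2 (mul_comm_of_normal_le (h.ab_all hP hk') htop _ _)
  obtain ⟨x0, hx0⟩ : ∃ x : N, x ∉ Subgroup.center N := by
    by_contra hc
    push Not at hc
    exact hP 2 Nat.prime_two fun g => ⟨0, hc _⟩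
  obtain ⟨p, hp, k, hk, hk'⟩ := exists_part hx0
  set u := x0 ^ k with hu
  have hcomm : ∀ (r s : ℕ), r.Prime → s.Prime → r ≠ s → ∀ a b : N, IsPElem r a → IsPElem s b → Commute a b := by
    rintro r s hr hs hrs a b ⟨i, hi⟩ ⟨j, hj⟩
    have hc : ∀ z : N, Commute ⁅a, b⁆ z := fun z => (Subgroup.mem_center_iff.1 (hG' a b) z).symm
    have h1 : ⁅a, b⁆ ^ s ^ j = 1 := by
      have h5 : (a * b * a⁻¹) ^ s ^ j = 1 := by rw [conj_pow, hj, mul_one, mul_inv_cancel]
      rwa [show a * b * a⁻¹ = ⁅a, b⁆ * b by rw [commutatorElement_def]; group, (hc b).mul_pow, hj, mul_one] at h5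
    have h2 : ⁅a, b⁆ ^ r ^ i = 1 := by
      have h5 : (b * a * b⁻¹) ^ r ^ i = 1 := by rw [conj_pow, hi, mul_one, mul_inv_cancel]
      rw [show b * a * b⁻¹ = (⁅a, b⁆)⁻¹ * a by rw [commutatorElement_def]; group, ((hc a).inv_left).mul_pow,
        hi, mul_one, inv_pow, inv_eq_one] at h5
      exact h5
    exact commutatorElement_eq_one_iff_mul_comm.1 (orderOf_eq_one_iff.1 (Nat.eq_one_of_dvd_coprimes
      (((Nat.coprime_primes hr hs).2 hrs).pow i j) (orderOf_dvd_of_pow_eq_one h2) (orderOf_dvd_of_pow_eq_one h1)))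
  obtain ⟨q, hq, hqp, t, ht, ht'⟩ := exists_other hp (hP p hp)
  refine ht' (Subgroup.mem_center_iff.2 fun n => mem_cent.1 (mem_of_parts fun r hr j hj => ?_))
  by_cases hjc : n ^ j ∈ Subgroup.center N
  · exact center_le_cent t hjc
  by_cases hrq : r = q
  · have e1 := h.eq_of_coprime hr hp (by rw [hrq]; exact hqp) hj hk
      (hcomm r p hr hp (by rw [hrq]; exact hqp) _ _ hj hk) hjc hk'
    have e2 := h.eq_of_coprime hq hp hqp ht hk (hcomm q p hq hp hqp _ _ ht hk) ht' hk'
    rw [e2, ← e1]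
    exact self_mem_cent _
  · exact mem_cent.2 (hcomm r q hr hq hrq _ _ hj ht).eq

theorem frobenius : ∃ (Q K : Subgroup (↥N ⧸ Subgroup.center ↥N)) (p : ℕ), p.Prime ∧
    Cfsg.IsFrobeniusComplement Q ∧ (Nat.card ↥Q).Prime ∧ K.Normal ∧
    (K : Set (↥N ⧸ Subgroup.center ↥N)) = Cfsg.frobeniusKernel Q ∧ Cfsg.IsElementaryAbelian p K := by
  obtain ⟨x, hx, hxn⟩ := h.exists_nonNormal hP
  obtain ⟨y, hy, hyout⟩ := h.exists_outside hP hx hxn
  have hyn : (cent y).Normal := by
    by_contra hn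
    obtain ⟨u, hu⟩ := h.conj_of_nonNormal hP hx hxn hy hn
    exact hyout u (mem_conj_smul_iff.1 (hu ▸ self_mem_cent y))
  haveI := hyn
  set A := cent x with hA
  set B := cent y with hB
  set Z := Subgroup.center N with hZ
  have hBI : Inv B := h.inv_cent hy hyn
  have hBi := inv_iff.1 hBI
  have hAab : Ab A := h.ab_all hP hx
  have hBab : Ab B := h.ab_all hP hy
  have hAB : ∀ n ∈ A, n ∈ B → n ∈ Z := by
    intro n hnA hnB
    by_contra hc
    refine hxn ?_
    rw [hA, (h.eq_of_mem hP hx hc hnA).symm.trans (h.eq_of_mem hP hy hc hnB)]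
    exact hyn
  have htop : A ⊔ B = ⊤ := h.sup_eq_top hx hBI fun hle => hy (hAB y (hle (self_mem_cent y)) (self_mem_cent y))
  set π := QuotientGroup.mk' Z with hπ
  have hπs : Function.Surjective π := QuotientGroup.mk'_surjective _
  have hcA : (A.map π).comap π = A := comap_map_cent x
  have hcB : (B.map π).comap π = B := comap_map_cent y
  have hAne : A.map π ≠ ⊥ := fun e => hx ((QuotientGroup.eq_one_iff x).1
    (Subgroup.mem_bot.1 (e.le ⟨x, self_mem_cent x, rfl⟩)))
  have hFC : Cfsg.IsFrobeniusComplement (A.map π) := by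
    refine ⟨hAne, fun e => h.cent_ne_top hx (show A = ⊤ by rw [← hcA, e, Subgroup.comap_top]), fun g hg => ?_⟩
    rw [Subgroup.eq_bot_iff_forall]
    rintro e ⟨⟨a, ha, rfl⟩, he⟩
    obtain ⟨g, rfl⟩ := hπs g
    change π a ∈ MulAut.conj (π g) • A.map π at he
    rw [mem_conj_smul_iff, ← map_inv, ← map_mul, ← map_mul] at he
    by_contra hc
    have hc' : a ∉ Z := fun hz => hc ((QuotientGroup.eq_one_iff a).2 hz)
    refine hg ⟨g, ?_, rfl⟩
    have h1 : g⁻¹ * a * g⁻¹⁻¹ ∈ A := by rw [inv_inv]; exact hcA.le he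
    simpa using A.inv_mem (h.mem_of_conj_mem hP hx hxn g⁻¹ a ha hc' h1)
  haveI hBn' : (B.map π).Normal := Subgroup.Normal.map hyn π hπs
  -- no non-central element of the complement commutes with the kernel modulo the centre
  have hfpf : ∀ a ∈ A, ∀ b ∈ B, a ∉ Z → ⁅b, a⁆ ∈ Z → b ∈ Z := by
    intro a ha b hb ha' hab
    refine hAB b (h.mem_of_conj_mem hP hx hxn b a ha ha' ?_) hb
    have := A.mul_mem (center_le_cent x hab) ha
    rwa [commutatorElement_def, inv_mul_cancel_right] at this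
  have hK : (B.map π : Set (N ⧸ Z)) = Cfsg.frobeniusKernel (A.map π) := by
    ext e
    constructor
    · rintro ⟨b, hb, rfl⟩
      by_cases hbz : b ∈ Z
      · exact Or.inl ((QuotientGroup.eq_one_iff b).2 hbz)
      refine Or.inr fun g hg => ?_
      obtain ⟨g, rfl⟩ := hπs g
      rw [mem_conj_smul_iff, ← map_inv, ← map_mul, ← map_mul] at hg
      have h1 : g⁻¹ * b * g ∈ A := hcA.le hg
      have h2 : g⁻¹ * b * g⁻¹⁻¹ ∈ B := hyn.conj_mem b hb g⁻¹
      rw [inv_inv] at h2
      have h3 : g⁻¹ * b * g⁻¹⁻¹ ∈ Z := by rw [inv_inv]; exact hAB _ h1 h2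
      exact hbz (conj_mem_center.1 h3)
    · rintro (rfl | he)
      · exact one_mem (B.map π)
      obtain ⟨n, rfl⟩ := hπs e
      refine ⟨n, ?_, rfl⟩
      by_cases hnz : n ∈ Z
      · exact center_le_cent y hnz
      have hnn : (cent n).Normal := by
        by_contra hnn
        obtain ⟨u, hu⟩ := h.conj_of_nonNormal hP hx hxn hnz hnn
        refine he (π u) ?_
        rw [mem_conj_smul_iff, ← map_inv, ← map_mul, ← map_mul]
        exact ⟨_, mem_conj_smul_iff.1 (hu ▸ self_mem_cent n), rfl⟩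
      haveI := hnn
      by_contra hnB
      have hcap : ∀ m ∈ cent n, m ∈ B → m ∈ Z := by
        intro m hm1 hm2
        by_contra hc
        exact hnB (((h.eq_of_mem hP hnz hc hm1).symm.trans (h.eq_of_mem hP hy hc hm2)).le (self_mem_cent n))
      obtain ⟨a, ha, b, hb, rfl⟩ := Subgroup.mem_sup_of_normal_right.1 (htop.ge (Subgroup.mem_top n))
      have hcom : ⁅y, a * b⁆ ∈ Z := hcap _ (by
          rw [commutatorElement_def]
          exact (cent (a * b)).mul_mem (hnn.conj_mem _ (self_mem_cent _) y) ((cent (a * b)).inv_mem (self_mem_cent _)))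
        (by
          rw [commutatorElement_def, mul_assoc, mul_assoc]
          refine B.mul_mem (self_mem_cent y) ?_
          simpa [mul_assoc] using hyn.conj_mem _ (B.inv_mem (self_mem_cent y)) (a * b))
      by_cases ha' : a ∈ Z
      · exact hnB (B.mul_mem (center_le_cent y ha') hb)
      refine hy (hfpf a ha y (self_mem_cent y) ha' ?_)
      rw [← QuotientGroup.eq_one_iff] at hcom ⊢
      change ⁅(y : N ⧸ Z), ((a : N ⧸ Z) * b)⁆ = 1 at hcom
      show ⁅(y : N ⧸ Z), (a : N ⧸ Z)⁆ = 1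
      have hyb : Commute (y : N ⧸ Z) (b : N ⧸ Z) :=
        (show Commute y b from hBab y (self_mem_cent y) b hb).map π
      have hyab : Commute (y : N ⧸ Z) ((a : N ⧸ Z) * b) := commutatorElement_eq_one_iff_mul_comm.1 hcom
      have := hyab.mul_right hyb.inv_right
      rw [mul_inv_cancel_right] at this
      exact commutatorElement_eq_one_iff_mul_comm.2 this.eq
  -- the kernel is elementary abelian
  obtain ⟨p, hp, k, ⟨i, hi⟩, hk'⟩ := exists_part hy
  obtain ⟨j, hj, hj'⟩ := exists_pow_center (p := p) hk' ⟨i, by rw [hi]; exact one_mem _⟩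
  let W : Subgroup N :=
    { carrier := {b | b ∈ B ∧ b ^ p ∈ Z}
      one_mem' := ⟨one_mem B, by rw [one_pow]; exact one_mem Z⟩
      mul_mem' := fun {a b} ha hb => ⟨mul_mem ha.1 hb.1, by
        rw [(show Commute a b from hBab a ha.1 b hb.1).mul_pow]; exact mul_mem ha.2 hb.2⟩
      inv_mem' := fun {a} ha => ⟨inv_mem ha.1, by rw [inv_pow]; exact inv_mem ha.2⟩ }
  have hWI : Inv W := inv_iff.2 fun g d hd =>
    ⟨hBi g d hd.1, by rw [← map_pow]; exact inv_iff.1 inv_center g _ hd.2⟩
  have hb0 : (y ^ k) ^ p ^ j ∈ W := ⟨B.pow_mem (B.pow_mem (self_mem_cent y) k) _, hj'⟩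
  haveI := hWI.normal
  have hAW : A ⊔ W = ⊤ := h.sup_eq_top hx hWI fun hle => hj (hAB _ (hle hb0) hb0.1)
  have hBp : ∀ b ∈ B, b ^ p ∈ Z := by
    intro b hb
    obtain ⟨a, ha, w, hw, rfl⟩ := Subgroup.mem_sup_of_normal_right.1 (hAW.ge (Subgroup.mem_top b))
    have haB : a ∈ B := by simpa [mul_assoc] using B.mul_mem hb (B.inv_mem hw.1)
    have haz := hAB a ha haB
    rw [(show Commute a w from (Subgroup.mem_center_iff.1 haz w).symm).mul_pow]
    exact mul_mem (Z.pow_mem haz p) hw.2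
  refine ⟨A.map π, B.map π, p, hp, hFC, ?_, hBn', hK, ⟨⟨fun u v => ?_⟩⟩, ?_⟩
  rotate_left
  · obtain ⟨_, u, hu, rfl⟩ := u
    obtain ⟨_, v, hv, rfl⟩ := v
    refine Subtype.ext ?_
    show π u * π v = π v * π u
    rw [← map_mul, ← map_mul, hBab u hu v hv]
  · rintro _ ⟨b, hb, rfl⟩
    rw [← map_pow]
    exact (QuotientGroup.eq_one_iff _).2 (hBp b hb)
  -- the complement has prime order
  haveI hAc : IsMulCommutative (A.map π) := ⟨⟨by
    rintro ⟨_, u, hu, rfl⟩ ⟨_, v, hv, rfl⟩
    refine Subtype.ext ?_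
    show π u * π v = π v * π u
    rw [← map_mul, ← map_mul, hAab u hu v hv]⟩⟩
  haveI : IsMulCommutative (B.map π) := ⟨⟨by
    rintro ⟨_, u, hu, rfl⟩ ⟨_, v, hv, rfl⟩
    refine Subtype.ext ?_
    show π u * π v = π v * π u
    rw [← map_mul, ← map_mul, hBab u hu v hv]⟩⟩
  have hBne : B.map π ≠ ⊥ := fun e => hy ((QuotientGroup.eq_one_iff y).1
    (Subgroup.mem_bot.1 (e.le ⟨y, self_mem_cent y, rfl⟩)))
  haveI : IsCyclic (A.map π) := by
    refine CfsgLib.Hall.Struct.fpf_abelian_cyclic (A.map π) (B.map π) hBne ?_ ?_ (Or.inl hAc)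
    · rw [Subgroup.normalizer_eq_top_iff.2 hBn']; exact le_top
    · rintro _ ⟨a, ha, rfl⟩ ha1
      rw [Subgroup.eq_bot_iff_forall]
      rintro _ ⟨⟨b, hb, rfl⟩, hc⟩
      refine (QuotientGroup.eq_one_iff b).2 (hfpf a ha b hb (fun hz => ha1 ((QuotientGroup.eq_one_iff a).2 hz)) ?_)
      rw [← QuotientGroup.eq_one_iff]
      exact commutatorElement_eq_one_iff_mul_comm.2 (Subgroup.mem_centralizer_singleton_iff.1 hc)
  obtain ⟨q, hq, hqd⟩ := Nat.exists_prime_and_dvd (fun e => hAne (Subgroup.eq_bot_of_card_eq _ e))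
  haveI := Fact.mk hq
  have hcommB : ∀ u v : N ⧸ B, u * v = v * u := mul_comm_of_normal_le hAab htop
  let L : Subgroup N :=
    { carrier := {n | n ^ q ∈ B}
      one_mem' := by show (1 : N) ^ q ∈ B; rw [one_pow]; exact one_mem B
      mul_mem' := fun {a b} ha hb => by
        show (a * b) ^ q ∈ B
        rw [← QuotientGroup.eq_one_iff, QuotientGroup.mk_pow, QuotientGroup.mk_mul,
          (show Commute (a : N ⧸ B) b from hcommB _ _).mul_pow, ← QuotientGroup.mk_pow, ← QuotientGroup.mk_pow,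
          (QuotientGroup.eq_one_iff _).2 ha, (QuotientGroup.eq_one_iff _).2 hb, mul_one]
      inv_mem' := fun {a} ha => by
        show a⁻¹ ^ q ∈ B
        rw [inv_pow]; exact inv_mem ha }
  have hLI : Inv L := inv_iff.2 fun g d hd => by
    show (MulAut.conjNormal g d) ^ q ∈ B
    rw [← map_pow]; exact hBi g _ hd
  obtain ⟨⟨_, a0, ha0, rfl⟩, ho⟩ := exists_prime_orderOf_dvd_card' (G := A.map π) q hqd
  have ha0q : a0 ^ q ∈ Z := by
    rw [← QuotientGroup.eq_one_iff, QuotientGroup.mk_pow]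
    have := pow_orderOf_eq_one (⟨π a0, a0, ha0, rfl⟩ : A.map π)
    rw [ho] at this
    exact congrArg Subtype.val this
  have hLy : ¬ L ≤ cent y := fun hle => by
    refine hq.ne_one ?_
    rw [← ho, orderOf_eq_one_iff]
    exact Subtype.ext ((QuotientGroup.eq_one_iff a0).2 (hAB a0 ha0 (hle (center_le_cent y ha0q))))
  have hLtop : L = ⊤ := top_le_iff.1 ((h.sup_eq_top hy hLI hLy).ge.trans
    (sup_le (fun b hb => B.pow_mem hb q) le_rfl))
  obtain ⟨c, hc⟩ := IsCyclic.exists_generator (α := A.map π)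
  have hcq : orderOf c ∣ q := by
    obtain ⟨_, a, ha, rfl⟩ := c
    refine orderOf_dvd_of_pow_eq_one (Subtype.ext ?_)
    show π a ^ q = 1
    rw [← map_pow]
    exact (QuotientGroup.eq_one_iff _).2 (hAB _ (A.pow_mem ha q) (hLtop.ge (Subgroup.mem_top a)))
  have hcard : orderOf c = Nat.card (A.map π) := by
    rw [orderOf_eq_card_of_forall_mem_zpowers hc]
  rcases (Nat.dvd_prime hq).1 hcq with e | e
  · exact absurd (Subgroup.eq_bot_of_card_eq _ (hcard.symm.trans e)) hAne
  · rw [← hcard, e]; exact hq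

end Hyp

/-- The structure theorem. -/
theorem main (N : Subgroup G) [N.Normal]
    (h : ∀ x : G, x ∈ N → x ∉ Subgroup.centralizer (N : Set G) → IsCoatom (Subgroup.centralizer ({x} : Set G))) :
    (∃ p : ℕ, p.Prime ∧ Cfsg.IsElementaryAbelian p (⊤ : Subgroup (↥N ⧸ Subgroup.center ↥N))) ∨
    (∃ (Q K : Subgroup (↥N ⧸ Subgroup.center ↥N)) (p : ℕ), p.Prime ∧ Cfsg.IsFrobeniusComplement Q ∧ (Nat.card ↥Q).Prime ∧
      K.Normal ∧ (K : Set (↥N ⧸ Subgroup.center ↥N)) = Cfsg.frobeniusKernel Q ∧ Cfsg.IsElementaryAbelian p K) := by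
  have hh : Hyp N := fun x hx => h x x.2 fun hc => hx (Subgroup.mem_center_iff.2 fun n =>
    Subtype.ext (Subgroup.mem_centralizer_iff.1 hc n n.2))
  by_cases hP : ∀ l : ℕ, l.Prime → ¬ PMod l N
  · exact Or.inr (hh.frobenius hP)
  · push Not at hP
    obtain ⟨l, hl, hl'⟩ := hP
    exact Or.inl ⟨l, hl, hh.elementary hl hl'⟩

end CfsgLib.MaxCentNormal
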